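import Mathlib
import Groth.Prelude.Def_Koszul
import Groth.Agent.Lib.Helper5.BvdB.KoszulGen
import Groth.Agent.Lib.Helper5.Approx.RingCells

/-!
# Koszul orthogonality in `D(A)` (helper5)
-/
set_option autoImplicit false
set_option linter.unusedSectionVars false
set_option linter.unusedVariables false
universe u
open CategoryTheory CategoryTheory.Limits Pretriangulated
attribute [local instance] HasDerivedCategory.standard

namespace Groth.Agent.Lib.Helper5.KoszulOrth

open DerivedCategory Groth.Agent.Helper5.Summand Groth.Agent.Helper5.DRingCone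
  Groth.Agent.Lib.Helper5.BvdB Groth.Agent.Lib.Helper5.Approx

variable {A : Type u} [CommRing A]

/-- the Koszul object in `D(A)` -/
noncomputable abbrev kos (fs : List A) : Dual.D A := DerivedCategory.Q.obj (Koszul.koszul A fs)

noncomputable def kosNilIso : kos (A := A) [] ≅ Dual.inD A A :=
  ((singleFunctorIsoCompQ (ModuleCat.{u} A) 0).app (ModuleCat.of A A)).symm

/-- the defining triangle of the Koszul object -/
theorem kos_triangle (f : A) (l : List A) :
    ∃ (ι : kos l ⟶ kos (f :: l)) (δ : kos (f :: l) ⟶ (kos l)⟦(1 : ℤ)⟧),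
      Triangle.mk (f • 𝟙 (kos l)) ι δ ∈ distTriang (Dual.D A) := by
  let φ : Koszul.koszul A l ⟶ Koszul.koszul A l := f • 𝟙 (Koszul.koszul A l)
  have h := mappingCone_triangle_distinguished φ
  have hφ : DerivedCategory.Q.map φ = f • 𝟙 (kos l) := by
    simp only [φ, Functor.map_smul, CategoryTheory.Functor.map_id]
  have h' : Triangle.mk (DerivedCategory.Q.map φ)
      (DerivedCategory.Q.map (CochainComplex.mappingCone.inr φ))
      (DerivedCategory.Q.map (CochainComplex.mappingCone.triangle φ).mor₃ ≫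
        (DerivedCategory.Q.commShiftIso (1 : ℤ)).hom.app _) ∈ distTriang (Dual.D A) := h
  rw [hφ] at h'
  exact ⟨_, _, h'⟩

/-- the Koszul object is annihilated by powers of the elements of the list -/
theorem kos_ann (fs : List A) : ∀ f ∈ fs, ∃ a : ℕ, (f ^ a) • 𝟙 (kos fs) = 0 := by
  induction fs with
  | nil => exact fun f hf => absurd hf (List.not_mem_nil)
  | cons f fs ih =>
    obtain ⟨ι, δ, hT⟩ := kos_triangle f fs
    have hrot := rot_of_distTriang _ hT
    intro g hg
    rcases List.mem_cons.1 hg with rfl | hg'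
    · refine ⟨1 + 1, ?_⟩
      have h2 : ((g ^ 1) • 𝟙 (kos (g :: fs))) ≫ δ = 0 := by
        have h3 : δ ≫ (g • 𝟙 (kos fs))⟦(1 : ℤ)⟧' = 0 := comp_distTriang_mor_zero₃₁ _ hT
        rw [Functor.map_smul, CategoryTheory.Functor.map_id, Linear.comp_smul,
          Category.comp_id] at h3
        rw [pow_one, Linear.smul_comp, Category.id_comp]
        exact h3
      obtain ⟨θ, hθ⟩ : ∃ θ : kos (g :: fs) ⟶ kos fs, (g ^ 1) • 𝟙 (kos (g :: fs)) = θ ≫ ι :=
        Triangle.coyoneda_exact₃ _ hT _ h2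
      have h4 : (g • 𝟙 (kos fs)) ≫ ι = 0 := comp_distTriang_mor_zero₁₂ _ hT
      have h5 : (g ^ 1) • ι = 0 := by
        rw [Linear.smul_comp, Category.id_comp] at h4
        rw [pow_one]
        exact h4
      rw [pow_add, mul_smul, hθ, ← Linear.comp_smul, h5, comp_zero]
    · obtain ⟨a, ha⟩ := ih g hg'
      refine ⟨a + a, ?_⟩
      have := smul_id_mid_eq_zero _ hrot (g ^ a) (g ^ a) ha
        (smul_id_shift_eq_zero (kos fs) (g ^ a) ha 1)
      rw [pow_add]
      exact this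

/-- the amplitude of the Koszul object -/
theorem kos_amp (fs : List A) : Amp (FP A) (-(fs.length : ℤ)) 0 (kos fs) := by
  induction fs with
  | nil =>
    have h0 : Amp (FP A) 0 0 (Dual.inD A A) :=
      Amp.single 0 (ModuleCat.of A A) ⟨inferInstance, inferInstance⟩
    exact (h0.of_iso kosNilIso.symm).mono (by simp) le_rfl
  | cons f fs ih =>
    obtain ⟨ι, δ, hT⟩ := kos_triangle f fs
    have h2 := Amp.cone hyp_fp.proj hyp_fp.sum _ hT ih ih
    refine h2.mono ?_ ?_
    · have hlen : ((f :: fs).length : ℤ) = (fs.length : ℤ) + 1 := by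
        rw [List.length_cons]; push_cast; ring
      rw [hlen]
      have := min_le_left (-(fs.length : ℤ) - 1) (-(fs.length : ℤ))
      omega
    · simp

theorem kos_perfect (fs : List A) : DRing.IsPerfect A (kos fs) :=
  (amp_iff _).2 ⟨_, _, by have : (0 : ℤ) ≤ fs.length := Int.natCast_nonneg _; omega, kos_amp fs⟩

/-- one step of Koszul detection, in a fixed degree -/
theorem det_of_cone_deg (f : A) (N : Dual.D A) (hN : PowTors f N) (P C : Dual.D A)
    (hP : DRing.IsPerfect A P) (ι : P ⟶ C) (δ : C ⟶ P⟦(1 : ℤ)⟧)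
    (hT : Triangle.mk (f • 𝟙 P) ι δ ∈ distTriang (Dual.D A)) (n : ℤ)
    (h : ∀ ψ : C⟦n⟧ ⟶ N, ψ = 0) : ∀ ψ : P⟦n⟧ ⟶ N, ψ = 0 := by
  intro ψ
  have step : ∀ ψ' : P⟦n⟧ ⟶ N, f • ψ' = 0 → ψ' = 0 := by
    intro ψ' h0
    have hTn := Triangle.shift_distinguished _ hT n
    have h1 : ((Triangle.shiftFunctor _ n).obj (Triangle.mk (f • 𝟙 P) ι δ)).mor₁ ≫ ψ' = 0 := by
      show (n.negOnePow • (f • 𝟙 P)⟦n⟧') ≫ ψ' = 0
      rw [Functor.map_smul, CategoryTheory.Functor.map_id, Units.smul_def,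
        Preadditive.zsmul_comp, Linear.smul_comp, Category.id_comp, h0, smul_zero]
    obtain ⟨ψ'', hψ''⟩ := Triangle.yoneda_exact₂ _ hTn ψ' h1
    have h2 : ψ'' = 0 := h ψ''
    rw [hψ'', h2]
    exact comp_zero
  obtain ⟨e, he⟩ := exists_pow_smul_eq_zero f (P⟦n⟧)
    (Groth.Agent.Helper5.PerfRes.perfect_shift P n hP) N hN ψ
  induction e with
  | zero => simpa using he
  | succ e ih =>
    apply ih
    apply step
    rw [← mul_smul, ← pow_succ']
    exact he

/-- **Koszul detection in a fixed degree**: if `N` has `fs`-power torsion cohomology and all maps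
`K(fs)[n] ⟶ N` vanish, so do all maps `A[n] ⟶ N` -/
theorem hom_unit_eq_zero_of_kos (N : Dual.D A) (n : ℤ) :
    ∀ (fs : List A), (∀ f ∈ fs, PowTors f N) → (∀ ψ : (kos fs)⟦n⟧ ⟶ N, ψ = 0) →
      ∀ ψ : (Dual.inD A A)⟦n⟧ ⟶ N, ψ = 0 := by
  intro fs
  induction fs with
  | nil =>
    intro _ h ψ
    have h1 := h ((kosNilIso (A := A)).hom⟦n⟧' ≫ ψ)
    have h2 : ψ = (kosNilIso (A := A)).inv⟦n⟧' ≫ (kosNilIso (A := A)).hom⟦n⟧' ≫ ψ := by
      rw [← Category.assoc, ← Functor.map_comp, Iso.inv_hom_id, CategoryTheory.Functor.map_id,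
        Category.id_comp]
    rw [h2, h1, comp_zero]
  | cons f fs ih =>
    intro hN h
    obtain ⟨ι, δ, hT⟩ := kos_triangle f fs
    apply ih (fun g hg => hN g (List.mem_cons_of_mem _ hg))
    exact det_of_cone_deg f N (hN f List.mem_cons_self) (kos fs) (kos (f :: fs))
      (kos_perfect fs) ι δ hT n h

/-- vanishing of `Hom(A[-j], N)` kills `H^j(N)` -/
theorem isZero_HD_of_hom_unit (N : Dual.D A) (j : ℤ)
    (h : ∀ ψ : (Dual.inD A A)⟦-j⟧ ⟶ N, ψ = 0) :
    IsZero ((DerivedCategory.homologyFunctor (ModuleCat.{u} A) j).obj N) := by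
  have h1 : Subsingleton (Dual.inD A A ⟶ N⟦j⟧) := by
    refine ⟨fun k k' => ?_⟩
    suffices h0 : ∀ k : Dual.inD A A ⟶ N⟦j⟧, k = 0 by rw [h0 k, h0 k']
    intro k
    let adjS := (shiftEquiv (Dual.D A) j).symm.toAdjunction
    have h1 : (adjS.homEquiv (Dual.inD A A) N).symm k = 0 := h _
    have h2 : k = adjS.homEquiv (Dual.inD A A) N ((adjS.homEquiv (Dual.inD A A) N).symm k) :=
      (Equiv.apply_symm_apply _ _).symm
    rw [h2, h1]
    haveI : (shiftEquiv (Dual.D A) j).symm.functor.Additive :=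
      inferInstanceAs (shiftFunctor (Dual.D A) (-j)).Additive
    exact map_zero (adjS.homAddEquiv (Dual.inD A A) N)
  have h2 : Subsingleton (Dual.HD A N j) :=
    (Groth.Agent.Helper3.HomUnit.unitEquiv N j).symm.toEquiv.subsingleton
  exact ModuleCat.isZero_of_subsingleton _

/-- **Koszul orthogonality, lower bound** -/
theorem isGE_of_kos_orth (fs : List A) (N : Dual.D A) (hN : ∀ f ∈ fs, PowTors f N) (a : ℤ)
    (h : ∀ n : ℤ, n ≤ a → ∀ ψ : (kos fs)⟦-n⟧ ⟶ N, ψ = 0) : N.IsGE (a + 1) := by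
  rw [DerivedCategory.isGE_iff]
  intro i hi
  exact isZero_HD_of_hom_unit N i
    (hom_unit_eq_zero_of_kos N (-i) fs hN (h i (by omega)))

/-- **Koszul orthogonality, upper bound** -/
theorem isLE_of_kos_orth (fs : List A) (N : Dual.D A) (hN : ∀ f ∈ fs, PowTors f N) (a : ℤ)
    (h : ∀ n : ℤ, a ≤ n → ∀ ψ : (kos fs)⟦-n⟧ ⟶ N, ψ = 0) : N.IsLE (a - 1) := by
  rw [DerivedCategory.isLE_iff]
  intro i hi
  exact isZero_HD_of_hom_unit N i
    (hom_unit_eq_zero_of_kos N (-i) fs hN (h i (by omega)))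

end Groth.Agent.Lib.Helper5.KoszulOrth
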