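import Mathlib
import Groth.Agent.Lib.Helper5.Approx.Octa

/-!
# Truncations of a map in terms of its fibre (helper5)
-/
set_option autoImplicit false
set_option linter.unusedSectionVars false
set_option linter.unusedVariables false
open CategoryTheory CategoryTheory.Limits Pretriangulated

namespace Groth.Agent.Lib.Helper5.KoszulOrth

open Groth.Agent.Lib.Helper5.Approx

variable {C : Type*} [Category C] [Preadditive C] [HasZeroObject C] [HasShift C ℤ]
  [∀ n : ℤ, (shiftFunctor C n).Additive] [Pretriangulated C] [IsTriangulated C]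
  (t : Triangulated.TStructure C)

/-- if the fibre of `η` is `≥ a + 1`, then `τ_{≤ a - 1} η` is an isomorphism -/
theorem isIso_truncLE_map_of_isGE_fibre {F E G : C} (u : F ⟶ E) (η : E ⟶ G)
    (δ : G ⟶ F⟦(1 : ℤ)⟧) (hT : Triangle.mk u η δ ∈ distTriang C) (a : ℤ)
    (hF : t.IsGE F (a + 1)) : IsIso ((t.truncLE (a - 1)).map η) := by
  rw [t.isIso_truncLE_map_iff η (a - 1) a (by omega)]
  have h₁₂ := t.triangleLEGE_distinguished (a - 1) a (by omega) E
  have hrot := rot_of_distTriang _ hT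
  obtain ⟨Z, v, w, m₁, m₃, h₁₃, hoct⟩ := octa_compose ((t.truncLEι (a - 1)).app E)
    ((t.truncGEπ a).app E) ((t.truncGEδLE (a - 1) a (by omega)).app E) h₁₂ η δ
    (-u⟦(1 : ℤ)⟧') hrot
  refine ⟨Z, v, w, h₁₃, ?_⟩
  have h1 : t.IsGE (F⟦(1 : ℤ)⟧) a := t.isGE_shift F (a + 1) 1 a (by omega)
  exact t.isGE₂ _ hoct a (inferInstance : t.IsGE ((t.truncGE a).obj E) a) h1

/-- if the fibre of `η` is `≤ a - 1`, then `τ_{≥ a} η` is an isomorphism -/
theorem isIso_truncGE_map_of_isLE_fibre {F E G : C} (u : F ⟶ E) (η : E ⟶ G)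
    (δ : G ⟶ F⟦(1 : ℤ)⟧) (hT : Triangle.mk u η δ ∈ distTriang C) (a : ℤ)
    (hF : t.IsLE F (a - 1)) : IsIso ((t.truncGE a).map η) := by
  rw [t.isIso_truncGE_map_iff η (a - 1) a (by omega)]
  have hG := t.triangleLEGE_distinguished (a - 1) a (by omega) G
  have hGrot := rot_of_distTriang _ hG
  have hrot := rot_of_distTriang _ hT
  obtain ⟨Z, v, w, m₁, m₃, h₁₃, hoct⟩ := octa_compose η δ (-u⟦(1 : ℤ)⟧') hrot
    ((t.truncGEπ a).app G) ((t.truncGEδLE (a - 1) a (by omega)).app G)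
    (-((t.truncLEι (a - 1)).app G)⟦(1 : ℤ)⟧') hGrot
  have h1 : t.IsLE (F⟦(1 : ℤ)⟧) (a - 2) := t.isLE_shift F (a - 1) 1 (a - 2) (by omega)
  have h2 : t.IsLE (((t.truncLE (a - 1)).obj G)⟦(1 : ℤ)⟧) (a - 2) :=
    t.isLE_shift ((t.truncLE (a - 1)).obj G) (a - 1) 1 (a - 2) (by omega)
  have hZ : t.IsLE Z (a - 2) := t.isLE₂ _ hoct (a - 2) h1 h2
  have hinv := inv_rot_of_distTriang _ h₁₃
  exact ⟨Z⟦(-1 : ℤ)⟧, _, _, hinv, t.isLE_shift Z (a - 2) (-1) (a - 1) (by omega)⟩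

end Groth.Agent.Lib.Helper5.KoszulOrth
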