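import Mathlib
import Groth.Prelude.Def_Wider
import Groth.Agent.Lib.Helper5.KoszulOrth.Ring
import Groth.Agent.Lib.Helper5.KoszulOrth.Trunc
import Groth.Agent.Lib.Helper5.Approx.AffStep
import Groth.Agent.Lib.Helper5.BvdB.ShriekRes

/-!
# Koszul orthogonality on `Spec A` and the unit `E ⟶ Rj_* j^* E` (helper5)
-/
set_option autoImplicit false
set_option linter.unusedSectionVars false
set_option linter.unusedVariables false
universe u
open CategoryTheory CategoryTheory.Limits AlgebraicGeometry Pretriangulated TopologicalSpace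
open scoped ZeroObject
attribute [local instance] HasDerivedCategory.standard

namespace Groth.Agent.Lib.Helper5.KoszulOrth

open Groth.Agent.Lib.Helper5 Groth.Agent.Lib.Helper5.QC
  Groth.Agent.Lib.Helper5.TildePC Groth.Agent.Lib.Helper5.PerfTri
  Groth.Agent.Lib.Helper5.CountHom Groth.Agent.Lib.Helper5.HomVanish
  Groth.Agent.Lib.Helper5.BvdB Groth.Agent.Lib.Helper5.RpushSupp
  Groth.Agent.Lib.Helper5.Approx Groth.Agent.Helper5.Summand

section Punct

variable (A : Type u) [CommRing A] (fs : List A)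

theorem mem_puncturedOpen_iff (x : Spec (CommRingCat.of A)) :
    x ∈ LocCoh.puncturedOpen A (Ideal.span {a | a ∈ fs}) ↔
      ∃ f ∈ fs, f ∉ (x : PrimeSpectrum A).asIdeal := by
  let y : PrimeSpectrum A := x
  show y ∈ (PrimeSpectrum.zeroLocus
    ((Ideal.span {a | a ∈ fs} : Ideal A) : Set A))ᶜ ↔ ∃ f ∈ fs, f ∉ y.asIdeal
  rw [Set.mem_compl_iff, PrimeSpectrum.zeroLocus_span, PrimeSpectrum.mem_zeroLocus,
    Set.not_subset]
  constructor
  · rintro ⟨f, hf, hfx⟩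
    exact ⟨f, hf, hfx⟩
  · rintro ⟨f, hf, hfx⟩
    exact ⟨f, hf, hfx⟩

theorem isCompact_puncturedOpen :
    IsCompact ((LocCoh.puncturedOpen A (Ideal.span {a | a ∈ fs}) :
      (Spec (CommRingCat.of A)).Opens) : Set (Spec (CommRingCat.of A))) := by
  classical
  have h : IsCompact ((PrimeSpectrum.zeroLocus
      ((Ideal.span {a | a ∈ fs} : Ideal A) : Set A))ᶜ : Set (PrimeSpectrum A)) ∧
      IsOpen ((PrimeSpectrum.zeroLocus
      ((Ideal.span {a | a ∈ fs} : Ideal A) : Set A))ᶜ : Set (PrimeSpectrum A)) := by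
    rw [PrimeSpectrum.isCompact_isOpen_iff]
    refine ⟨fs.toFinset, ?_⟩
    rw [PrimeSpectrum.zeroLocus_span]
    congr 2
    ext a
    simp
  exact h.1

end Punct

section Main

variable (R : CommRingCat.{u}) (fs : List R) (U : (Spec (CommRingCat.of R)).Opens)

theorem isGE_tildeD (M : Dual.D R) (t : ℤ) (h : M.IsGE t) : ((DCoh.tildeD R).obj M).IsGE t := by
  rw [DerivedCategory.isGE_iff]
  intro i hi
  refine IsZero.of_iso ?_ (hdTildeDIso R M i)
  exact (tilde.functor R).map_isZero (DerivedCategory.isZero_of_isGE M t i hi)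

/-- the Koszul object on `Spec R` -/
noncomputable abbrev kosT : DCoh.D (Spec (CommRingCat.of R)) := (DCoh.tildeD R).obj (kos fs)

theorem vanishOn_kosT
    (hU : ∀ x : Spec (CommRingCat.of R),
      x ∈ U ↔ ∃ f ∈ fs, f ∉ (x : PrimeSpectrum.Top R).asIdeal) :
    VanishOn (kosT R fs) (U : Set (Spec (CommRingCat.of R))) := by
  apply vanishOn_tildeD R (kos fs)
  intro x hx
  obtain ⟨f, hf, hfx⟩ := (hU x).1 hx
  exact ⟨f, hfx, kos_ann fs f hf⟩

theorem isLE_kosT_shift (n : ℤ) : ((kosT R fs)⟦-n⟧).IsLE n := by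
  haveI : (kos fs).IsLE 0 := (kos_amp fs).isLE
  haveI : (kosT R fs).IsLE 0 := isLE_tildeD R (kos fs) 0 inferInstance
  exact DerivedCategory.TStructure.t.isLE_shift (kosT R fs) 0 (-n) n (by omega)

variable [DCoh.HasRpush U.ι]

/-- maps from objects vanishing on `U` to objects pushed forward from `U` vanish -/
theorem hom_rpush_eq_zero (adj : DCoh.restrictD U.ι ⊣ DCoh.Rpush U.ι)
    (L : DCoh.D (Spec (CommRingCat.of R)))
    (hL : VanishOn L (U : Set (Spec (CommRingCat.of R)))) (M : DCoh.D (U : Scheme.{u}))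
    (φ : L ⟶ (DCoh.Rpush U.ι).obj M) : φ = 0 := by
  have hz : IsZero ((DCoh.restrictD U.ι).obj L) := (isZero_restrictD_iff_vanishOn U L).2 hL
  have hsub : Subsingleton (L ⟶ (DCoh.Rpush U.ι).obj M) :=
    (adj.homEquiv L M).subsingleton_congr.1 ⟨fun a b => hz.eq_of_src a b⟩
  exact Subsingleton.elim _ _

theorem isIso_counit_of_adj (adj : DCoh.restrictD U.ι ⊣ DCoh.Rpush U.ι) : IsIso adj.counit := by
  let ff := (resAdj U.ι).fullyFaithfulROfIsIsoCounit
  haveI := ff.full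
  haveI := ff.faithful
  infer_instance

/-- maps from objects vanishing on `U` to desuspensions of objects pushed forward from `U`
vanish -/
theorem hom_rpush_shift_eq_zero (adj : DCoh.restrictD U.ι ⊣ DCoh.Rpush U.ι)
    (L : DCoh.D (Spec (CommRingCat.of R)))
    (hL : VanishOn L (U : Set (Spec (CommRingCat.of R)))) (M : DCoh.D (U : Scheme.{u}))
    (φ : L ⟶ ((DCoh.Rpush U.ι).obj M)⟦(-1 : ℤ)⟧) : φ = 0 := by
  let G := (DCoh.Rpush U.ι).obj M
  let e : (G⟦(-1 : ℤ)⟧)⟦(1 : ℤ)⟧ ≅ G := (shiftEquiv (DCoh.D (Spec (CommRingCat.of R))) (1 : ℤ)).counitIso.app G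
  have h1 : φ⟦(1 : ℤ)⟧' ≫ e.hom = 0 :=
    hom_rpush_eq_zero R U adj (L⟦(1 : ℤ)⟧) (VanishOn.shift U hL 1) M _
  have h2 : φ⟦(1 : ℤ)⟧' = 0 := by
    have := congrArg (· ≫ e.inv) h1
    simpa using this
  exact (shiftFunctor (DCoh.D (Spec (CommRingCat.of R))) (1 : ℤ)).map_injective
    (h2.trans (Functor.map_zero _ _ _).symm)

/-- **the fibre of the unit**: it is of the form `N~` with `N` an `fs`-power torsion complex, and
Koszul orthogonality of `E` passes to `N` -/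
theorem exists_fibre_data
    (hU : ∀ x : Spec (CommRingCat.of R),
      x ∈ U ↔ ∃ f ∈ fs, f ∉ (x : PrimeSpectrum.Top R).asIdeal)
    (hUc : IsCompact (U : Set (Spec (CommRingCat.of R))))
    (adj : DCoh.restrictD U.ι ⊣ DCoh.Rpush U.ι)
    (E : DCoh.D (Spec (CommRingCat.of R))) (hE : DCoh.IsQCohD E) :
    ∃ (F : DCoh.D (Spec (CommRingCat.of R))) (u : F ⟶ E)
      (δ : (DCoh.Rpush U.ι).obj ((DCoh.restrictD U.ι).obj E) ⟶ F⟦(1 : ℤ)⟧) (N : Dual.D R)
      (e : (DCoh.tildeD R).obj N ≅ F),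
      Triangle.mk u (adj.unit.app E) δ ∈ distTriang _ ∧ (∀ f ∈ fs, PowTors f N) ∧
      (∀ m : ℤ, (∀ φ : (kosT R fs)⟦m⟧ ⟶ E, φ = 0) → ∀ ψ : (kos fs)⟦m⟧ ⟶ N, ψ = 0) := by
  haveI : CompactSpace ↥(U : Scheme.{u}) := isCompact_iff_compactSpace.mp hUc
  let RU := DCoh.restrictD U.ι
  let η : E ⟶ (DCoh.Rpush U.ι).obj (RU.obj E) := adj.unit.app E
  obtain ⟨F, u, δ, hT⟩ := distinguished_cocone_triangle₁ η
  have hG : DCoh.IsQCohD ((DCoh.Rpush U.ι).obj (RU.obj E)) :=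
    isQCohD_rpush U.ι _ (isQCohD_restrictJ U.ι E hE)
  have hF : DCoh.IsQCohD F := isQCohD_of_triangle_left _ hT hE hG
  haveI := isIso_counit_of_adj R U adj
  have hηU : IsIso (RU.map η) := by
    have h1 : RU.map η ≫ adj.counit.app (RU.obj E) = 𝟙 _ := adj.left_triangle_components E
    have h2 : IsIso (RU.map η ≫ adj.counit.app (RU.obj E)) := by
      rw [h1]
      infer_instance
    exact IsIso.of_isIso_comp_right _ (adj.counit.app (RU.obj E))
  have hFU : VanishOn F (U : Set (Spec (CommRingCat.of R))) := by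
    rw [← isZero_restrictD_iff_vanishOn]
    exact (Triangle.isZero₁_iff_isIso₂ _ (RU.map_distinguished _ hT)).2 hηU
  obtain ⟨N, ⟨e⟩⟩ := ((tildeD_main R).2.2 F).1 hF
  haveI : (DCoh.tildeD R).Faithful := (tildeD_main R).2.1
  refine ⟨F, u, δ, N, e, hT, ?_, ?_⟩
  · intro f hf
    apply powTors_of_vanishOn R N f
    refine VanishOn.mono (VanishOn.of_iso e.symm hFU) ?_
    intro x hx
    exact (hU x).2 ⟨f, hf, hx⟩
  · intro m h ψ
    let c := ((DCoh.tildeD R).commShiftIso m).app (kos fs)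
    let ψ' : (kosT R fs)⟦m⟧ ⟶ F := c.inv ≫ (DCoh.tildeD R).map ψ ≫ e.hom
    have h1 : ψ' ≫ u = 0 := h _
    have hinv := inv_rot_of_distTriang _ hT
    obtain ⟨θ, hθ⟩ := Triangle.coyoneda_exact₂ _ hinv ψ' h1
    have hθ0 : θ = 0 :=
      hom_rpush_shift_eq_zero R U adj _ (VanishOn.shift U (vanishOn_kosT R fs U hU) m) _ θ
    have h2 : ψ' = 0 := by
      rw [hθ, hθ0]
      exact zero_comp
    have h3 : (DCoh.tildeD R).map ψ = 0 := by
      have h4 : (DCoh.tildeD R).map ψ = c.hom ≫ ψ' ≫ e.inv := by simp [ψ']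
      rw [h4, h2, zero_comp, comp_zero]
    exact (DCoh.tildeD R).map_injective (h3.trans (Functor.map_zero _ _ _).symm)

/-- **Koszul orthogonality in low degrees makes `τ_{≤ a - 1}` of the unit an isomorphism** -/
theorem isIso_truncLE_unit
    (hU : ∀ x : Spec (CommRingCat.of R),
      x ∈ U ↔ ∃ f ∈ fs, f ∉ (x : PrimeSpectrum.Top R).asIdeal)
    (hUc : IsCompact (U : Set (Spec (CommRingCat.of R))))
    (adj : DCoh.restrictD U.ι ⊣ DCoh.Rpush U.ι)
    (E : DCoh.D (Spec (CommRingCat.of R))) (hE : DCoh.IsQCohD E) (a : ℤ)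
    (h : ∀ n : ℤ, n ≤ a → ∀ φ : (kosT R fs)⟦-n⟧ ⟶ E, φ = 0) :
    IsIso (((DerivedCategory.TStructure.t : Triangulated.TStructure
      (DCoh.D (Spec (CommRingCat.of R)))).truncLE (a - 1)).map (adj.unit.app E)) := by
  obtain ⟨F, u, δ, N, e, hT, hN, hdet⟩ := exists_fibre_data R fs U hU hUc adj E hE
  have hNge : N.IsGE (a + 1) :=
    isGE_of_kos_orth fs N hN a (fun n hn ψ => hdet (-n) (h n hn) ψ)
  have h1 := isGE_tildeD R N (a + 1) hNge
  have hFge : F.IsGE (a + 1) := DerivedCategory.TStructure.t.isGE_of_iso e (a + 1)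
  exact isIso_truncLE_map_of_isGE_fibre DerivedCategory.TStructure.t u _ δ hT a hFge

/-- **Koszul orthogonality in high degrees makes `τ_{≥ a}` of the unit an isomorphism** -/
theorem isIso_truncGE_unit
    (hU : ∀ x : Spec (CommRingCat.of R),
      x ∈ U ↔ ∃ f ∈ fs, f ∉ (x : PrimeSpectrum.Top R).asIdeal)
    (hUc : IsCompact (U : Set (Spec (CommRingCat.of R))))
    (adj : DCoh.restrictD U.ι ⊣ DCoh.Rpush U.ι)
    (E : DCoh.D (Spec (CommRingCat.of R))) (hE : DCoh.IsQCohD E) (a : ℤ)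
    (h : ∀ n : ℤ, a ≤ n → ∀ φ : (kosT R fs)⟦-n⟧ ⟶ E, φ = 0) :
    IsIso (((DerivedCategory.TStructure.t : Triangulated.TStructure
      (DCoh.D (Spec (CommRingCat.of R)))).truncGE a).map (adj.unit.app E)) := by
  obtain ⟨F, u, δ, N, e, hT, hN, hdet⟩ := exists_fibre_data R fs U hU hUc adj E hE
  have hNle : N.IsLE (a - 1) :=
    isLE_of_kos_orth fs N hN a (fun n hn ψ => hdet (-n) (h n hn) ψ)
  have h1 := isLE_tildeD R N (a - 1) hNle
  have hFle : F.IsLE (a - 1) := DerivedCategory.TStructure.t.isLE_of_iso e (a - 1)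
  exact isIso_truncGE_map_of_isLE_fibre DerivedCategory.TStructure.t u _ δ hT a hFle

/-- if `τ_{≤ a - 1}` of the unit is an isomorphism, `E` is Koszul orthogonal in degrees
`≤ a - 1` -/
theorem kos_orth_of_isIso_truncLE
    (hU : ∀ x : Spec (CommRingCat.of R),
      x ∈ U ↔ ∃ f ∈ fs, f ∉ (x : PrimeSpectrum.Top R).asIdeal)
    (adj : DCoh.restrictD U.ι ⊣ DCoh.Rpush U.ι)
    (E : DCoh.D (Spec (CommRingCat.of R))) (a : ℤ)
    (h : IsIso (((DerivedCategory.TStructure.t : Triangulated.TStructure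
      (DCoh.D (Spec (CommRingCat.of R)))).truncLE (a - 1)).map (adj.unit.app E))) :
    ∀ n : ℤ, n ≤ a - 1 → ∀ φ : (kosT R fs)⟦-n⟧ ⟶ E, φ = 0 := by
  intro n hn φ
  let t : Triangulated.TStructure (DCoh.D (Spec (CommRingCat.of R))) :=
    DerivedCategory.TStructure.t
  obtain ⟨Z, g, w, hT, hZ⟩ :=
    (t.isIso_truncLE_map_iff (adj.unit.app E) (a - 1) a (by omega)).1 h
  haveI h0 : ((kosT R fs)⟦-n⟧).IsLE n := isLE_kosT_shift R fs n
  have hK : t.IsLE ((kosT R fs)⟦-n⟧) (a - 1) := t.isLE_of_le _ n (a - 1) hn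
  have h₁₂ := t.triangleLEGE_distinguished (a - 1) a (by omega) E
  have h1 : φ ≫ (t.truncGEπ a).app E = 0 :=
    t.zero_of_isLE_of_isGE _ (a - 1) a (by omega) hK inferInstance
  obtain ⟨θ, hθ⟩ := Triangle.coyoneda_exact₂ _ h₁₂ φ h1
  have hθ' : φ = θ ≫ (t.truncLEι (a - 1)).app E := hθ
  have h2 : θ ≫ ((t.truncLEι (a - 1)).app E ≫ adj.unit.app E) = 0 := by
    rw [← Category.assoc, ← hθ']
    exact hom_rpush_eq_zero R U adj _ (VanishOn.shift U (vanishOn_kosT R fs U hU) (-n)) _ _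
  have hinv := inv_rot_of_distTriang _ hT
  obtain ⟨θ₁, hθ₁⟩ := Triangle.coyoneda_exact₂ _ hinv θ h2
  have hZ' : t.IsGE (Z⟦(-1 : ℤ)⟧) (a + 1) := t.isGE_shift Z a (-1) (a + 1) (by omega)
  have hθ₁0 : θ₁ = 0 := t.zero_of_isLE_of_isGE θ₁ (a - 1) (a + 1) (by omega) hK hZ'
  have hθ0 : θ = 0 := by
    rw [hθ₁, hθ₁0]
    exact zero_comp
  rw [hθ', hθ0]
  exact zero_comp

/-- if `τ_{≥ a}` of the unit is an isomorphism, `E` is Koszul orthogonal in degrees
`≥ a + r` -/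
theorem kos_orth_of_isIso_truncGE
    (hU : ∀ x : Spec (CommRingCat.of R),
      x ∈ U ↔ ∃ f ∈ fs, f ∉ (x : PrimeSpectrum.Top R).asIdeal)
    (hUc : IsCompact (U : Set (Spec (CommRingCat.of R))))
    (adj : DCoh.restrictD U.ι ⊣ DCoh.Rpush U.ι)
    (E : DCoh.D (Spec (CommRingCat.of R))) (hE : DCoh.IsQCohD E) (a : ℤ)
    (h : IsIso (((DerivedCategory.TStructure.t : Triangulated.TStructure
      (DCoh.D (Spec (CommRingCat.of R)))).truncGE a).map (adj.unit.app E))) :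
    ∀ n : ℤ, a + (fs.length : ℤ) ≤ n → ∀ φ : (kosT R fs)⟦-n⟧ ⟶ E, φ = 0 := by
  intro n hn φ
  haveI : CompactSpace ↥(U : Scheme.{u}) := isCompact_iff_compactSpace.mp hUc
  let t : Triangulated.TStructure (DCoh.D (Spec (CommRingCat.of R))) :=
    DerivedCategory.TStructure.t
  let G := (DCoh.Rpush U.ι).obj ((DCoh.restrictD U.ι).obj E)
  obtain ⟨X, f, w, hT, hX⟩ :=
    (t.isIso_truncGE_map_iff (adj.unit.app E) (a - 1) a (by omega)).1 h
  have h1 : φ ≫ (adj.unit.app E ≫ (t.truncGEπ a).app G) = 0 := by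
    rw [← Category.assoc,
      hom_rpush_eq_zero R U adj _ (VanishOn.shift U (vanishOn_kosT R fs U hU) (-n)) _
        (φ ≫ adj.unit.app E), zero_comp]
  obtain ⟨θ, hθ'⟩ : ∃ θ : (kosT R fs)⟦-n⟧ ⟶ X, φ = θ ≫ f :=
    Triangle.coyoneda_exact₂ _ hT φ h1
  have hG : DCoh.IsQCohD G := isQCohD_rpush U.ι _ (isQCohD_restrictJ U.ι E hE)
  have hτG : DCoh.IsQCohD ((t.truncGE a).obj G) := by
    have hab : a - 1 + 1 = a := by omega
    have hd := t.triangleLEGE_distinguished (a - 1) a hab G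
    haveI : ((t.triangleLEGE (a - 1) a hab).obj G).obj₁.IsLE (a - 1) :=
      (inferInstance : t.IsLE ((t.truncLE (a - 1)).obj G) (a - 1))
    haveI : ((t.triangleLEGE (a - 1) a hab).obj G).obj₃.IsGE a :=
      (inferInstance : t.IsGE ((t.truncGE a).obj G) a)
    exact isQCohD_of_truncation ((t.triangleLEGE (a - 1) a hab).obj G) hd a hG
  have hXq : DCoh.IsQCohD X := isQCohD_of_triangle_left _ hT hE hτG
  obtain ⟨X₀, ⟨eX⟩⟩ := ((tildeD_main R).2.2 X).1 hXq
  have hX₀ : X₀.IsLE (a - 1) :=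
    isLE_of_isLE_tildeD R X₀ (a - 1) (t.isLE_of_iso eX.symm (a - 1))
  haveI : (DCoh.tildeD R).Full := (tildeD_main R).1
  let c := ((DCoh.tildeD R).commShiftIso (-n)).app (kos fs)
  obtain ⟨θ₀, hθ₀⟩ := (DCoh.tildeD R).map_surjective (c.hom ≫ θ ≫ eX.inv)
  have hamp : Amp (FP R) (n - fs.length) n ((kos fs)⟦-n⟧) :=
    ((kos_amp fs).shift (-n)).mono (by omega) (by omega)
  haveI : X₀.IsLE (n - fs.length - 1) :=
    DerivedCategory.TStructure.t.isLE_of_le X₀ (a - 1) _ (by omega)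
  have hθ₀0 : θ₀ = 0 := hom_eq_zero_of_amp (FP R) hyp_fp.proj hamp θ₀
  have hθ0 : θ = 0 := by
    have h4 : θ = c.inv ≫ (DCoh.tildeD R).map θ₀ ≫ eX.hom := by
      rw [hθ₀, Category.assoc, Category.assoc, eX.inv_hom_id, Category.comp_id,
        c.inv_hom_id_assoc]
    rw [h4, hθ₀0, Functor.map_zero, zero_comp, comp_zero]
  rw [hθ', hθ0]
  exact zero_comp

end Main

end Groth.Agent.Lib.Helper5.KoszulOrth
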