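import Mathlib
import Groth.Agent.Lib.Helper5.KoszulOrth.Spec

/-!
# Koszul orthogonality characterises pushforwards from the punctured spectrum (helper5)
-/
set_option autoImplicit false
set_option linter.unusedSectionVars false
set_option linter.unusedVariables false
universe u
open CategoryTheory CategoryTheory.Limits AlgebraicGeometry Pretriangulated TopologicalSpace
open scoped ZeroObject
attribute [local instance] HasDerivedCategory.standard

namespace Groth.Agent.Lib.Helper5.KoszulOrth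

open Groth.Agent.Lib.Helper5 Groth.Agent.Lib.Helper5.QC
  Groth.Agent.Lib.Helper5.TildePC Groth.Agent.Lib.Helper5.PerfTri
  Groth.Agent.Lib.Helper5.CountHom Groth.Agent.Lib.Helper5.HomVanish
  Groth.Agent.Lib.Helper5.BvdB Groth.Agent.Lib.Helper5.RpushSupp
  Groth.Agent.Lib.Helper5.Approx Groth.Agent.Helper5.Summand

variable (R : CommRingCat.{u}) (fs : List R) (U : (Spec (CommRingCat.of R)).Opens)
  [DCoh.HasRpush U.ι]

/-- **full Koszul orthogonality makes the unit `E ⟶ Rj_* j^* E` an isomorphism** -/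
theorem isIso_unit_of_kos_orth
    (hU : ∀ x : Spec (CommRingCat.of R),
      x ∈ U ↔ ∃ f ∈ fs, f ∉ (x : PrimeSpectrum.Top R).asIdeal)
    (hUc : IsCompact (U : Set (Spec (CommRingCat.of R))))
    (adj : DCoh.restrictD U.ι ⊣ DCoh.Rpush U.ι)
    (E : DCoh.D (Spec (CommRingCat.of R))) (hE : DCoh.IsQCohD E)
    (h : ∀ (n : ℤ) (φ : (kosT R fs)⟦n⟧ ⟶ E), φ = 0) :
    IsIso (adj.unit.app E) := by
  obtain ⟨F, u, δ, N, e, hT, hN, hdet⟩ := exists_fibre_data R fs U hU hUc adj E hE
  have hNge : N.IsGE (0 + 1) :=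
    isGE_of_kos_orth fs N hN 0 (fun n hn ψ => hdet (-n) (h (-n)) ψ)
  have hNle : N.IsLE (1 - 1) :=
    isLE_of_kos_orth fs N hN 1 (fun n hn ψ => hdet (-n) (h (-n)) ψ)
  have hN0 : IsZero N := by
    haveI : N.IsLE 0 := by simpa using hNle
    haveI : N.IsGE 1 := by simpa using hNge
    exact DerivedCategory.TStructure.t.isZero N 0 1 (by omega)
  have hF0 : IsZero F := IsZero.of_iso ((DCoh.tildeD R).map_isZero hN0) e.symm
  exact (Triangle.isZero₁_iff_isIso₂ _ hT).1 hF0

/-- **characterisation of pushforwards from the punctured spectrum by Koszul orthogonality** -/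
theorem exists_rpush_iff_kos_orth
    (hU : ∀ x : Spec (CommRingCat.of R),
      x ∈ U ↔ ∃ f ∈ fs, f ∉ (x : PrimeSpectrum.Top R).asIdeal)
    (hUc : IsCompact (U : Set (Spec (CommRingCat.of R))))
    (E : DCoh.D (Spec (CommRingCat.of R))) (hE : DCoh.IsQCohD E) :
    (∃ M : DCoh.D (U : Scheme.{u}), DCoh.IsQCohD M ∧
      Nonempty (E ≅ (DCoh.Rpush U.ι).obj M)) ↔
    ∀ (n : ℤ) (φ : (kosT R fs)⟦n⟧ ⟶ E), φ = 0 := by
  let adj := resAdj U.ι
  constructor
  · rintro ⟨M, hM, ⟨e⟩⟩ n φ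
    have h1 : φ ≫ e.hom = 0 :=
      hom_rpush_eq_zero R U adj _ (VanishOn.shift U (vanishOn_kosT R fs U hU) n) M _
    have h2 : φ = (φ ≫ e.hom) ≫ e.inv := by simp
    rw [h2, h1, zero_comp]
  · intro h
    haveI := isIso_unit_of_kos_orth R fs U hU hUc adj E hE h
    exact ⟨(DCoh.restrictD U.ι).obj E, isQCohD_restrictJ U.ι E hE, ⟨asIso (adj.unit.app E)⟩⟩

end Groth.Agent.Lib.Helper5.KoszulOrth
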