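import Mathlib
import Groth.Agent.Lib.Helper5.KoszulOrth.Ring

/-!
# Sections factor through Koszul complexes on powers (helper5)
-/
set_option autoImplicit false
set_option linter.unusedSectionVars false
set_option linter.unusedVariables false
universe u
open CategoryTheory CategoryTheory.Limits Pretriangulated
open scoped ZeroObject
attribute [local instance] HasDerivedCategory.standard

namespace Groth.Agent.Lib.Helper5.KoszulOrth

open Groth.Agent.Lib.Helper5 Groth.Agent.Lib.Helper5.Approx Groth.Agent.Helper5.Summand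

variable {A : Type u} [CommRing A]

/-- the canonical map `K(l) ⟶ K(g :: l)` -/
noncomputable def kosIn (g : A) (l : List A) : kos l ⟶ kos (g :: l) :=
  DerivedCategory.Q.map (CochainComplex.mappingCone.inr (g • 𝟙 (Koszul.koszul A l)))

/-- the defining triangle of the Koszul object, with the canonical second map -/
theorem kos_triangle' (g : A) (l : List A) :
    ∃ δ : kos (g :: l) ⟶ (kos l)⟦(1 : ℤ)⟧,
      Triangle.mk (g • 𝟙 (kos l)) (kosIn g l) δ ∈ distTriang (Dual.D A) := by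
  let φ : Koszul.koszul A l ⟶ Koszul.koszul A l := g • 𝟙 (Koszul.koszul A l)
  have h := DerivedCategory.mappingCone_triangle_distinguished φ
  have hφ : DerivedCategory.Q.map φ = g • 𝟙 (kos l) := by
    simp only [φ, Functor.map_smul, CategoryTheory.Functor.map_id]
  have h' : Triangle.mk (DerivedCategory.Q.map φ)
      (DerivedCategory.Q.map (CochainComplex.mappingCone.inr φ))
      (DerivedCategory.Q.map (CochainComplex.mappingCone.triangle φ).mor₃ ≫
        (DerivedCategory.Q.commShiftIso (1 : ℤ)).hom.app _) ∈ distTriang (Dual.D A) := h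
  rw [hφ] at h'
  exact ⟨_, h'⟩

/-- the canonical map `A ⟶ K(l)` -/
noncomputable def kosUnit : ∀ l : List A, Dual.inD A A ⟶ kos l
  | [] => kosNilIso.inv
  | g :: l => kosUnit l ≫ kosIn g l

theorem kosUnit_cons (g : A) (l : List A) : kosUnit (g :: l) = kosUnit l ≫ kosIn g l := rfl

/-- transition maps between Koszul objects on powers, compatible with the units -/
theorem exists_transition (l : List A) (e e' : ℕ) (h : e ≤ e') :
    ∃ τ : kos (l.map (fun a => a ^ e')) ⟶ kos (l.map (fun a => a ^ e)),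
      kosUnit (l.map (fun a => a ^ e')) ≫ τ = kosUnit (l.map (fun a => a ^ e)) := by
  induction l with
  | nil => exact ⟨𝟙 _, Category.comp_id _⟩
  | cons g l ih =>
    obtain ⟨τ, hτ⟩ := ih
    obtain ⟨δ₁, hT₁⟩ := kos_triangle' (g ^ e') (l.map (fun a => a ^ e'))
    obtain ⟨δ₂, hT₂⟩ := kos_triangle' (g ^ e) (l.map (fun a => a ^ e))
    have hcomm : (Triangle.mk ((g ^ e') • 𝟙 (kos (l.map (fun a => a ^ e'))))
        (kosIn (g ^ e') (l.map (fun a => a ^ e'))) δ₁).mor₁ ≫ τ =
        ((g ^ (e' - e)) • τ) ≫ (Triangle.mk ((g ^ e) • 𝟙 (kos (l.map (fun a => a ^ e))))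
          (kosIn (g ^ e) (l.map (fun a => a ^ e))) δ₂).mor₁ := by
      show ((g ^ e') • 𝟙 _) ≫ τ = ((g ^ (e' - e)) • τ) ≫ ((g ^ e) • 𝟙 _)
      rw [Linear.smul_comp, Category.id_comp, Linear.smul_comp, Linear.comp_smul,
        Category.comp_id, smul_smul, ← pow_add, Nat.sub_add_cancel h]
    obtain ⟨c, hc'⟩ : ∃ c : kos ((g ^ e') :: l.map (fun a => a ^ e')) ⟶
        kos ((g ^ e) :: l.map (fun a => a ^ e)),
        kosIn (g ^ e') (l.map (fun a => a ^ e')) ≫ c =
          τ ≫ kosIn (g ^ e) (l.map (fun a => a ^ e)) := by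
      obtain ⟨c, hc, -⟩ := complete_distinguished_triangle_morphism _ _ hT₁ hT₂
        ((g ^ (e' - e)) • τ) τ hcomm
      exact ⟨c, hc⟩
    refine ⟨c, ?_⟩
    show (kosUnit (l.map (fun a => a ^ e')) ≫ kosIn (g ^ e') (l.map (fun a => a ^ e'))) ≫ c =
      kosUnit (l.map (fun a => a ^ e)) ≫ kosIn (g ^ e) (l.map (fun a => a ^ e))
    rw [Category.assoc, hc', ← Category.assoc, hτ]

/-- **sections factor through Koszul objects on powers** -/
theorem exists_factor_kos (l : List A) :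
    ∀ (M : Dual.D A), (∀ f ∈ l, TorsGE f (1 - (l.length : ℤ)) M) → ∀ s : Dual.inD A A ⟶ M,
      ∃ (e : ℕ) (ψ : kos (l.map (fun a => a ^ e)) ⟶ M),
        kosUnit (l.map (fun a => a ^ e)) ≫ ψ = s := by
  induction l with
  | nil =>
    intro M _ s
    exact ⟨0, kosNilIso.hom ≫ s, by
      show kosNilIso.inv ≫ kosNilIso.hom ≫ s = s
      rw [Iso.inv_hom_id_assoc]⟩
  | cons g l ih =>
    intro M hM s
    have hlen : (((g :: l).length : ℕ) : ℤ) = (l.length : ℤ) + 1 := by simp
    have hM' : ∀ f ∈ l, TorsGE f (1 - (l.length : ℤ)) M := fun f hf =>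
      (hM f (List.mem_cons_of_mem g hf)).mono (by rw [hlen]; omega)
    obtain ⟨e₀, ψ₀, hψ₀⟩ := ih M hM'
      s
    have hMg : TorsGE g (-(l.length : ℤ)) M :=
      (hM g List.mem_cons_self).mono (by rw [hlen]; omega)
    have hamp : Amp (FP A) (-(l.length : ℤ)) 0 (kos (l.map (fun a => a ^ e₀))) := by
      have := kos_amp (l.map (fun a => a ^ e₀))
      rw [List.length_map] at this
      exact this
    obtain ⟨e', he'⟩ := exists_pow_smul_eq_zero_amp g
      (by have := Int.natCast_nonneg l.length; omega) _ hamp M hMg ψ₀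
    let e := max e₀ e'
    obtain ⟨τ, hτ⟩ := exists_transition l e₀ e (le_max_left _ _)
    let ψ₁ : kos (l.map (fun a => a ^ e)) ⟶ M := τ ≫ ψ₀
    have hψ₁ : (g ^ e) • ψ₁ = 0 := by
      have h1 : g ^ e = g ^ (e - e') * g ^ e' := by
        rw [← pow_add, Nat.sub_add_cancel (le_max_right _ _)]
      show (g ^ e) • (τ ≫ ψ₀) = 0
      rw [h1, mul_smul, ← Linear.comp_smul, ← Linear.comp_smul, he', smul_zero, comp_zero]
    obtain ⟨δ, hT⟩ := kos_triangle' (g ^ e) (l.map (fun a => a ^ e))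
    have hz' : ((g ^ e) • 𝟙 (kos (l.map (fun a => a ^ e)))) ≫ ψ₁ = 0 := by
      rw [Linear.smul_comp, Category.id_comp, hψ₁]
    have hzero : (Triangle.mk ((g ^ e) • 𝟙 (kos (l.map (fun a => a ^ e))))
        (kosIn (g ^ e) (l.map (fun a => a ^ e))) δ).mor₁ ≫ ψ₁ = 0 := hz'
    obtain ⟨ψ, hψ'⟩ : ∃ ψ : kos ((g ^ e) :: l.map (fun a => a ^ e)) ⟶ M,
        ψ₁ = kosIn (g ^ e) (l.map (fun a => a ^ e)) ≫ ψ := by
      obtain ⟨ψ, hψ⟩ := Triangle.yoneda_exact₂ _ hT ψ₁ hzero
      exact ⟨ψ, hψ⟩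
    refine ⟨e, ψ, ?_⟩
    show (kosUnit (l.map (fun a => a ^ e)) ≫ kosIn (g ^ e) (l.map (fun a => a ^ e))) ≫ ψ = s
    rw [Category.assoc, ← hψ']
    show kosUnit (l.map (fun a => a ^ e)) ≫ τ ≫ ψ₀ = s
    rw [← Category.assoc, hτ, hψ₀]

end Groth.Agent.Lib.Helper5.KoszulOrth
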