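import Mathlib
import Groth.Agent.Lib.Helper5.KoszulOrth.Factor
import Groth.Agent.Lib.Helper5.KoszulOrth.Spec
import Groth.Agent.Lib.Helper5.FinPC.FinPush

/-!
# Sections of objects of `D_QCoh(Spec A)` factor through Koszul complexes on powers (helper5)
-/
set_option autoImplicit false
set_option linter.unusedSectionVars false
set_option linter.unusedVariables false
universe u
open CategoryTheory CategoryTheory.Limits AlgebraicGeometry Pretriangulated TopologicalSpace
open scoped ZeroObject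
attribute [local instance] HasDerivedCategory.standard

namespace Groth.Agent.Lib.Helper5.KoszulOrth

open Groth.Agent.Lib.Helper5 Groth.Agent.Lib.Helper5.QC
  Groth.Agent.Lib.Helper5.TildePC Groth.Agent.Lib.Helper5.PerfTri
  Groth.Agent.Lib.Helper5.CountHom Groth.Agent.Lib.Helper5.HomVanish
  Groth.Agent.Lib.Helper5.BvdB Groth.Agent.Lib.Helper5.RpushSupp
  Groth.Agent.Lib.Helper5.Approx Groth.Agent.Helper5.Summand
  Groth.Agent.Lib.Helper5.FinPush

open DerivedCategory.HomologySequence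

section Ring

variable {A : Type u} [CommRing A]

/-- torsion in a window passes to the truncation `τ_{≤ 0}` -/
theorem torsGE_truncLE (f : A) (a : ℤ) (M : Dual.D A)
    (h : ∀ n : ℤ, a ≤ n → n ≤ 0 → ∀ x : Dual.HD A M n, ∃ e : ℕ, f ^ e • x = 0) :
    TorsGE f a (((DerivedCategory.TStructure.t : Triangulated.TStructure (Dual.D A)).truncLE 0).obj
      M) := by
  let t : Triangulated.TStructure (Dual.D A) := DerivedCategory.TStructure.t
  intro n hn x
  by_cases hn0 : n ≤ 0
  · let T := (t.triangleLEGE 0 1 (by omega)).obj M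
    have hT' : T ∈ distTriang _ := t.triangleLEGE_distinguished 0 1 (by omega) M
    have hδ : DerivedCategory.HomologySequence.δ T (n - 1) n (by omega) = 0 := by
      haveI : t.IsGE T.obj₃ 1 := inferInstanceAs (t.IsGE ((t.truncGE 1).obj M) 1)
      haveI : (T.obj₃).IsGE 1 := ‹_›
      exact (DerivedCategory.isZero_of_isGE T.obj₃ 1 (n - 1) (by omega)).eq_of_src _ _
    have hmono : Mono ((DerivedCategory.homologyFunctor (ModuleCat.{u} A) n).map T.mor₁) :=
      (mono_homologyMap_mor₁_iff T hT' (n - 1) n (by omega)).2 hδ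
    have hinj := (ModuleCat.mono_iff_injective _).1 hmono
    let φ := ((DerivedCategory.homologyFunctor (ModuleCat.{u} A) n).map T.mor₁).hom
    let x' : ((DerivedCategory.homologyFunctor (ModuleCat.{u} A) n).obj T.obj₁ : ModuleCat.{u} A) :=
      x
    obtain ⟨e, he⟩ := h n hn hn0 (φ x')
    refine ⟨e, hinj ?_⟩
    have h3 : φ (f ^ e • x') = 0 := (φ.map_smul (f ^ e) x').trans he
    exact h3.trans (φ.map_zero).symm
  · haveI : t.IsLE ((t.truncLE 0).obj M) 0 := inferInstance
    haveI : ((t.truncLE 0).obj M).IsLE 0 := ‹_›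
    have hz := DerivedCategory.isZero_of_isLE ((t.truncLE 0).obj M) 0 n (by omega)
    haveI : Subsingleton (Dual.HD A ((t.truncLE 0).obj M) n) :=
      ModuleCat.subsingleton_of_isZero hz
    exact ⟨0, Subsingleton.elim _ _⟩

end Ring

section Spec

variable (R : CommRingCat.{u}) (fs : List R) (U : (Spec (CommRingCat.of R)).Opens)

/-- **sections of objects of `D_QCoh(Spec R)` whose cohomology sheaves vanish on `U` in the
window `(-r, 0]` factor through the Koszul complex on powers** -/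
theorem exists_factor_kosT
    (hU : ∀ x : Spec (CommRingCat.of R),
      x ∈ U ↔ ∃ f ∈ fs, f ∉ (x : PrimeSpectrum.Top R).asIdeal)
    (E : DCoh.D (Spec (CommRingCat.of R))) (hE : DCoh.IsQCohD E)
    (hvan : ∀ i : ℤ, -(fs.length : ℤ) < i → i ≤ 0 → IsZero ((DCoh.HD E i).restrict U.ι))
    (s : DCoh.inD (Spec (CommRingCat.of R)) (Coh.structureModule (Spec (CommRingCat.of R))) ⟶ E) :
    ∃ (e : ℕ) (ψ : (DCoh.tildeD R).obj (kos (fs.map (fun a => a ^ e))) ⟶ E)
      (t : DCoh.inD (Spec (CommRingCat.of R)) (Coh.structureModule (Spec (CommRingCat.of R))) ⟶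
        (DCoh.tildeD R).obj (kos (fs.map (fun a => a ^ e)))), t ≫ ψ = s := by
  classical
  let t : Triangulated.TStructure (Dual.D R) := DerivedCategory.TStructure.t
  obtain ⟨M, ⟨eM⟩⟩ := ((tildeD_main R).2.2 E).1 hE
  haveI : (DCoh.tildeD R).Full := (tildeD_main R).1
  let u := tildeDUnitIso R
  obtain ⟨s₀, hs₀⟩ := (DCoh.tildeD R).map_surjective (u.hom ≫ s ≫ eM.inv)
  haveI : (Dual.inD R R).IsLE 0 := inferInstanceAs
    (((DerivedCategory.singleFunctor (ModuleCat.{u} R) 0).obj (ModuleCat.of R R)).IsLE 0)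
  haveI : t.IsLE (Dual.inD R R) 0 := ‹_›
  let M' := (t.truncLE 0).obj M
  let ι' : M' ⟶ M := (t.truncLEι 0).app M
  let s₀' : Dual.inD R R ⟶ M' := t.liftTruncLE s₀ 0
  have hs₀' : s₀' ≫ ι' = s₀ := t.liftTruncLE_ι s₀ 0
  have htors : ∀ f ∈ fs, TorsGE f (1 - (fs.length : ℤ)) M' := by
    intro f hf
    apply torsGE_truncLE
    intro n hn hn0 m
    refine exists_pow_smul_eq_zero_of_stalks R _ f (fun x hx => ?_) m
    have hxU : x ∈ U := (hU x).2 ⟨f, hf, hx⟩
    exact subsingleton_stalk_of_iso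
      ((DerivedCategory.homologyFunctor _ n).mapIso eM.symm ≪≫ hdTildeDIso R M n) x
      (subsingleton_stalk_of_isZero_restrict _ U (hvan n (by omega) hn0) x hxU)
  obtain ⟨e, ψ₀, hψ₀⟩ := exists_factor_kos fs M' htors s₀'
  refine ⟨e, (DCoh.tildeD R).map (ψ₀ ≫ ι') ≫ eM.hom,
    u.inv ≫ (DCoh.tildeD R).map (kosUnit (fs.map (fun a => a ^ e))), ?_⟩
  rw [Category.assoc, ← Functor.map_comp_assoc, ← Category.assoc (kosUnit _), hψ₀, hs₀', hs₀]
  simp

end Spec

end Groth.Agent.Lib.Helper5.KoszulOrth
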